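import Groth.Agent.Lib.FPAdd28
import Mathlib

/-!
# Extension of functors from finitely presented modules along filtered colimits
-/

set_option autoImplicit false
set_option linter.style.haveILetI false
set_option linter.unusedSectionVars false
set_option backward.isDefEq.respectTransparency false

universe u v' u'

open CategoryTheory CategoryTheory.Limits

noncomputable section

namespace Groth.Agent.FPExtend2

open Groth.Agent.FPAdd28 (presCocone presIsColimit)
open Groth.Agent.CAlgLow

variable {A : Type u} [CommRing A]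

section Compact

variable {J : Type u} [SmallCategory J] [IsFiltered J] {N : J ⥤ ModuleCat.{u} A} {c : Cocone N}
  (hc : IsColimit c)

include hc in
theorem exists_eqOn {ι : Type*} (s : Finset ι) {j : J} (x y : ι → N.obj j)
    (h : ∀ i ∈ s, (c.ι.app j).hom (x i) = (c.ι.app j).hom (y i)) :
    ∃ (k : J) (f : j ⟶ k), ∀ i ∈ s, (N.map f).hom (x i) = (N.map f).hom (y i) := by
  classical
  induction s using Finset.induction_on with
  | empty => exact ⟨j, 𝟙 j, by simp⟩
  | insert a s ha ih =>
    obtain ⟨k, f, hf⟩ := ih fun i hi => h i (Finset.mem_insert_of_mem hi)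
    obtain ⟨l, g, g', hg⟩ := Concrete.isColimit_exists_of_rep_eq N hc (x a) (y a) (h a (Finset.mem_insert_self a s))
    obtain ⟨m, p, q, hp, hq⟩ : ∃ (m : J) (p : k ⟶ m) (q : l ⟶ m), f ≫ p = g ≫ q ∧ f ≫ p = g' ≫ q :=
      ⟨IsFiltered.coeq ((f ≫ IsFiltered.leftToMax k l) ≫
          IsFiltered.coeqHom (f ≫ IsFiltered.leftToMax k l) (g ≫ IsFiltered.rightToMax k l))
          ((g' ≫ IsFiltered.rightToMax k l) ≫
          IsFiltered.coeqHom (f ≫ IsFiltered.leftToMax k l) (g ≫ IsFiltered.rightToMax k l)),
        IsFiltered.leftToMax k l ≫ IsFiltered.coeqHom _ _ ≫ IsFiltered.coeqHom _ _,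
        IsFiltered.rightToMax k l ≫ IsFiltered.coeqHom _ _ ≫ IsFiltered.coeqHom _ _,
        by simp only [← Category.assoc]; rw [IsFiltered.coeq_condition (f ≫ IsFiltered.leftToMax k l) (g ≫ IsFiltered.rightToMax k l)],
        by simp only [← Category.assoc]; exact IsFiltered.coeq_condition _ _⟩
    refine ⟨m, f ≫ p, fun i hi => ?_⟩
    rcases Finset.mem_insert.1 hi with rfl | hi
    · conv_lhs => rw [hp]
      conv_rhs => rw [hq]
      simp [hg]
    · simp [hf i hi]

include hc in
theorem exists_stage_lift : ∀ {n : ℕ} (z : Fin n → c.pt),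
    ∃ (j : J) (x : Fin n → N.obj j), ∀ i, (c.ι.app j).hom (x i) = z i := by
  intro n
  induction n with
  | zero => exact fun z => ⟨IsFiltered.nonempty.some, Fin.elim0, fun i => i.elim0⟩
  | succ n ih =>
    intro z
    obtain ⟨j, x, hx⟩ := ih (Fin.tail z)
    obtain ⟨k, y, hy⟩ := Concrete.isColimit_exists_rep N hc (z 0)
    refine ⟨IsFiltered.max j k, Fin.cons ((N.map (IsFiltered.rightToMax j k)).hom y)
      (fun i => (N.map (IsFiltered.leftToMax j k)).hom (x i)), ?_⟩
    refine Fin.cases ?_ (fun i => ?_)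
    · rw [Fin.cons_zero]
      exact (ConcreteCategory.congr_hom (c.w (IsFiltered.rightToMax j k)) y).trans hy
    · rw [Fin.cons_succ]
      exact (ConcreteCategory.congr_hom (c.w (IsFiltered.leftToMax j k)) (x i)).trans (hx i)

include hc in
/-- A map from a finitely presented module factors through a stage. -/
theorem exists_factor {M : ModuleCat.{u} A} [Module.FinitePresentation A M] (g : M ⟶ c.pt) :
    ∃ (j : J) (φ : M ⟶ N.obj j), φ ≫ c.ι.app j = g := by
  obtain ⟨n, s, hs⟩ := Module.Finite.exists_fin (R := A) (M := M)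
  let π : (Fin n → A) →ₗ[A] M := Fintype.linearCombination A s
  have hπ : Function.Surjective π := by
    rw [← LinearMap.range_eq_top, Fintype.range_linearCombination, hs]
  obtain ⟨j, x, hx⟩ := exists_stage_lift hc (fun i => g.hom (s i))
  obtain ⟨t, ht⟩ := Module.FinitePresentation.fg_ker π hπ
  let φ₀ : (Fin n → A) →ₗ[A] N.obj j := Fintype.linearCombination A x
  have hcomp : ∀ v, (c.ι.app j).hom (φ₀ v) = g.hom (π v) := by
    intro v
    simp only [φ₀, π, Fintype.linearCombination_apply]
    erw [map_sum, map_sum]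
    refine Finset.sum_congr rfl fun i _ => ?_
    erw [map_smul, hx, map_smul]
  obtain ⟨k, f, hf⟩ := exists_eqOn hc t (fun v => φ₀ v) (fun _ => 0) (fun v hv => by
    have : v ∈ LinearMap.ker π := ht ▸ Submodule.subset_span hv
    exact (hcomp v).trans ((congrArg g.hom (LinearMap.mem_ker.1 this)).trans ((map_zero g.hom).trans (map_zero (c.ι.app j).hom).symm)))
  let φ₁ : (Fin n → A) →ₗ[A] N.obj k := (N.map f).hom ∘ₗ φ₀
  have hker : LinearMap.ker π ≤ LinearMap.ker φ₁ := by
    rw [← ht, Submodule.span_le]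
    intro v hv
    simpa [φ₁] using hf v hv
  let ψ : M →ₗ[A] N.obj k :=
    (Submodule.liftQ _ φ₁ hker) ∘ₗ (LinearMap.quotKerEquivOfSurjective π hπ).symm.toLinearMap
  refine ⟨k, ModuleCat.ofHom ψ, ?_⟩
  refine ModuleCat.hom_ext (LinearMap.ext fun y => ?_)
  obtain ⟨v, rfl⟩ := hπ y
  have h1 : (LinearMap.quotKerEquivOfSurjective π hπ).symm (π v) = Submodule.Quotient.mk v := by
    rw [LinearEquiv.symm_apply_eq]; simp
  show (c.ι.app k).hom (ψ (π v)) = g.hom (π v)
  have h2 : ψ (π v) = φ₁ v := by
    simp [ψ, h1]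
  rw [h2, ← hcomp v]
  exact ConcreteCategory.congr_hom (c.w f) (φ₀ v)

include hc in
/-- Two factorizations agree at a later stage. -/
theorem exists_eq {M : ModuleCat.{u} A} [Module.Finite A M] {i j : J} (φ : M ⟶ N.obj i) (ψ : M ⟶ N.obj j)
    (h : φ ≫ c.ι.app i = ψ ≫ c.ι.app j) :
    ∃ (k : J) (p : i ⟶ k) (q : j ⟶ k), φ ≫ N.map p = ψ ≫ N.map q := by
  let m := IsFiltered.max i j
  let p := IsFiltered.leftToMax i j
  let q := IsFiltered.rightToMax i j
  obtain ⟨s, hs⟩ := Module.Finite.fg_top (R := A) (M := M)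
  obtain ⟨l, r, hr⟩ := exists_eqOn hc s (fun x => (φ ≫ N.map p).hom x) (fun x => (ψ ≫ N.map q).hom x)
    (fun x _ => by
      have h1 : (φ ≫ N.map p) ≫ c.ι.app m = (ψ ≫ N.map q) ≫ c.ι.app m := by
        rw [Category.assoc, Category.assoc, c.w, c.w, h]
      exact ConcreteCategory.congr_hom h1 x)
  refine ⟨l, p ≫ r, q ≫ r, ModuleCat.hom_ext (LinearMap.ext_on hs ?_)⟩
  intro x hx
  rw [Functor.map_comp, Functor.map_comp]
  exact hr x hx

end Compact

/-- The inclusion of finitely presented modules. -/
abbrev fpι (A : Type u) [CommRing A] :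
    (ObjectProperty.FullSubcategory (fun M : ModuleCat.{u} A => Module.FinitePresentation A M)) ⥤ ModuleCat.{u} A :=
  ObjectProperty.ι (fun M : ModuleCat.{u} A => Module.FinitePresentation A M)

/-- Presentations as finitely presented objects over a module. -/
def toCostr (M : ModuleCat.{u} A) : Pres A M ⥤ CostructuredArrow (fpι A) M where
  obj a := CostructuredArrow.mk (Y := ⟨ModuleCat.of A (Pres.G a), a.finitePresentation⟩)
    (ModuleCat.ofHom (Pres.π a))
  map {a b} h := CostructuredArrow.homMk (ObjectProperty.homMk (X := ⟨ModuleCat.of A (Pres.G a), a.finitePresentation⟩) (Y := ⟨ModuleCat.of A (Pres.G b), b.finitePresentation⟩) ((FPAdd28.diag M).map h))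
    (by exact (presCocone M).w h)
  map_id a := by
    apply CostructuredArrow.hom_ext
    apply ObjectProperty.hom_ext
    exact (FPAdd28.diag M).map_id a
  map_comp {a b c} h h' := by
    apply CostructuredArrow.hom_ext
    apply ObjectProperty.hom_ext
    exact (FPAdd28.diag M).map_comp h h'

instance final_toCostr (M : ModuleCat.{u} A) : (toCostr M).Final := by
  refine Functor.final_of_exists_of_isFiltered _ (fun d => ?_) (fun {d c} s s' => ?_)
  · haveI : Module.FinitePresentation A d.left.obj := d.left.property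
    obtain ⟨a, φ, hφ⟩ := exists_factor (presIsColimit M) (M := d.left.obj) d.hom
    exact ⟨a, ⟨CostructuredArrow.homMk (ObjectProperty.homMk φ) hφ⟩⟩
  · haveI : Module.FinitePresentation A d.left.obj := d.left.property
    obtain ⟨k, p, q, hpq⟩ := exists_eq (presIsColimit M) s.left.hom s'.left.hom
      ((CostructuredArrow.w s).trans (CostructuredArrow.w s').symm)
    refine ⟨k, p, ?_⟩
    apply CostructuredArrow.hom_ext
    apply ObjectProperty.hom_ext
    rw [Subsingleton.elim q p] at hpq
    change s.left.hom ≫ ((toCostr M).map p).left.hom = s'.left.hom ≫ ((toCostr M).map p).left.hom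
    exact hpq

variable {B : Type u'} [Category.{v'} B]

instance hasPointwise [HasFilteredColimitsOfSize.{u, u} B]
    (F : (ObjectProperty.FullSubcategory (fun M : ModuleCat.{u} A => Module.FinitePresentation A M)) ⥤ B) :
    (fpι A).HasPointwiseLeftKanExtension F := fun M => by
  haveI : HasColimit (toCostr M ⋙ CostructuredArrow.proj (fpι A) M ⋙ F) := by
    haveI : HasColimitsOfShape (Pres A M) B := HasFilteredColimitsOfSize.HasColimitsOfShape _
    infer_instance
  exact Functor.Final.hasColimit_of_comp (toCostr M)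

/-- The cocone of a functor preserving filtered colimits at a module. -/
def coconePres (F' : ModuleCat.{u} A ⥤ B) (M : ModuleCat.{u} A) :
    Cocone (CostructuredArrow.proj (fpι A) M ⋙ fpι A ⋙ F') :=
  (Functor.LeftExtension.mk F' (𝟙 (fpι A ⋙ F'))).coconeAt M

theorem isLeftKanExtension_of_preserves (F' : ModuleCat.{u} A ⥤ B)
    [PreservesFilteredColimitsOfSize.{u, u} F'] : F'.IsLeftKanExtension (𝟙 (fpι A ⋙ F')) := by
  refine Functor.LeftExtension.IsPointwiseLeftKanExtension.isLeftKanExtension
    (E := Functor.LeftExtension.mk F' (𝟙 (fpι A ⋙ F'))) fun M => ?_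
  refine (Functor.Final.isColimitWhiskerEquiv (toCostr M) _).toFun ?_
  haveI : PreservesColimitsOfShape (Pres A M) F' :=
    PreservesFilteredColimitsOfSize.preserves_filtered_colimits _
  refine (IsColimit.equivOfNatIsoOfIso (show FPAdd28.diag M ⋙ F' ≅ toCostr M ⋙ CostructuredArrow.proj (fpι A) M ⋙ fpι A ⋙ F' from NatIso.ofComponents (fun a => Iso.refl _) ?_) (F'.mapCocone (presCocone M)) _ ?_) (isColimitOfPreserves F' (presIsColimit M))
  · intro a b h
    exact (Category.comp_id _).trans (Category.id_comp _).symm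
  · refine Cocone.ext (Iso.refl _) fun a => ?_
    simp [toCostr, presCocone]
    erw [Category.id_comp]

/-- Uniqueness. -/
theorem nonempty_iso (F₁ F₂ : ModuleCat.{u} A ⥤ B) (h₁ : PreservesFilteredColimitsOfSize.{u, u} F₁)
    (h₂ : PreservesFilteredColimitsOfSize.{u, u} F₂) (e : fpι A ⋙ F₁ ≅ fpι A ⋙ F₂) : Nonempty (F₁ ≅ F₂) := by
  haveI := isLeftKanExtension_of_preserves F₁
  haveI := isLeftKanExtension_of_preserves F₂
  exact ⟨Functor.leftKanExtensionUniqueOfIso F₁ (𝟙 (fpι A ⋙ F₁)) e F₂ (𝟙 (fpι A ⋙ F₂))⟩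

variable [HasFilteredColimitsOfSize.{u, u} B]
  (F : (ObjectProperty.FullSubcategory (fun M : ModuleCat.{u} A => Module.FinitePresentation A M)) ⥤ B)

/-- The component at a finitely presented module over `M`. -/
def cι {M : ModuleCat.{u} A}
    (K : ObjectProperty.FullSubcategory (fun M : ModuleCat.{u} A => Module.FinitePresentation A M))
    (f : K.obj ⟶ M) : F.obj K ⟶ ((fpι A).pointwiseLeftKanExtension F).obj M :=
  colimit.ι (CostructuredArrow.proj (fpι A) M ⋙ F) (CostructuredArrow.mk (Y := K) f)

theorem cι_map {M N : ModuleCat.{u} A}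
    (K : ObjectProperty.FullSubcategory (fun M : ModuleCat.{u} A => Module.FinitePresentation A M))
    (f : K.obj ⟶ M) (φ : M ⟶ N) :
    cι F K f ≫ ((fpι A).pointwiseLeftKanExtension F).map φ = cι F K (f ≫ φ) := by
  dsimp only [cι, Functor.pointwiseLeftKanExtension]
  exact colimit.ι_desc _ _

theorem map_cι {M : ModuleCat.{u} A}
    {K K' : ObjectProperty.FullSubcategory (fun M : ModuleCat.{u} A => Module.FinitePresentation A M)}
    (a : K ⟶ K') (f : K'.obj ⟶ M) : F.map a ≫ cι F K' f = cι F K (a.hom ≫ f) :=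
  colimit.w (CostructuredArrow.proj (fpι A) M ⋙ F)
    (show CostructuredArrow.mk (S := fpι A) (Y := K) (a.hom ≫ f) ⟶ CostructuredArrow.mk (S := fpι A) (Y := K') f from
      CostructuredArrow.homMk a rfl)

theorem preservesFilteredColimits :
    PreservesFilteredColimitsOfSize.{u, u} ((fpι A).pointwiseLeftKanExtension F) := by
  refine ⟨fun J _ _ => ⟨fun {D} => ⟨fun {c} hc => ⟨?_⟩⟩⟩⟩
  let G := (fpι A).pointwiseLeftKanExtension F
  have hfac : ∀ x : CostructuredArrow (fpι A) c.pt, ∃ p : Σ j : J, x.left.obj ⟶ D.obj j,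
      p.2 ≫ c.ι.app p.1 = x.hom := fun x => by
    haveI : Module.FinitePresentation A x.left.obj := x.left.property
    obtain ⟨j, φ, h⟩ := exists_factor hc (M := x.left.obj) x.hom
    exact ⟨⟨j, φ⟩, h⟩
  choose p hp using hfac
  have key : ∀ (s : Cocone (D ⋙ G))
      (K : ObjectProperty.FullSubcategory (fun M : ModuleCat.{u} A => Module.FinitePresentation A M))
      {i j : J} (φ : K.obj ⟶ D.obj i) (ψ : K.obj ⟶ D.obj j),
      φ ≫ c.ι.app i = ψ ≫ c.ι.app j → cι F K φ ≫ s.ι.app i = cι F K ψ ≫ s.ι.app j := by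
    intro s K i j φ ψ h
    haveI : Module.FinitePresentation A K.obj := K.property
    obtain ⟨k, a, b, hab⟩ := exists_eq hc φ ψ h
    rw [← s.w a, ← s.w b, ← Category.assoc, ← Category.assoc]
    refine congrArg (· ≫ s.ι.app k) ?_
    exact (cι_map F K φ (D.map a)).trans ((congrArg (cι F K) hab).trans (cι_map F K ψ (D.map b)).symm)
  exact
    { desc := fun s => colimit.desc (CostructuredArrow.proj (fpι A) c.pt ⋙ F) (Cocone.mk s.pt
        { app := fun x => cι F x.left (p x).2 ≫ s.ι.app (p x).1
          naturality := fun x y g => by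
            dsimp
            rw [Category.comp_id, ← Category.assoc]
            erw [map_cι]
            refine key s x.left _ _ ?_
            rw [Category.assoc, hp, hp]
            exact CostructuredArrow.w g })
      fac := fun s j => by
        refine colimit.hom_ext fun x => ?_
        change cι F x.left x.hom ≫ G.map (c.ι.app j) ≫ _ = cι F x.left x.hom ≫ s.ι.app j
        rw [← Category.assoc, cι_map]
        refine (colimit.ι_desc (F := CostructuredArrow.proj (fpι A) c.pt ⋙ F) _ (CostructuredArrow.mk (Y := x.left) (x.hom ≫ c.ι.app j))).trans ?_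
        exact key s x.left _ _ (hp _)
      uniq := fun s m hm => by
        refine colimit.hom_ext (F := CostructuredArrow.proj (fpι A) c.pt ⋙ F) fun x => ?_
        erw [colimit.ι_desc]
        dsimp
        rw [← hm (p x).1]
        change cι F x.left x.hom ≫ m = cι F x.left (p x).2 ≫ G.map (c.ι.app (p x).1) ≫ m
        rw [← Category.assoc, cι_map, hp] }

theorem exists_extension :
    ∃ F' : ModuleCat.{u} A ⥤ B, PreservesFilteredColimitsOfSize.{u, u} F' ∧ Nonempty (fpι A ⋙ F' ≅ F) :=
  haveI : IsIso ((fpι A).pointwiseLeftKanExtensionUnit F) :=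
    (Functor.pointwiseLeftKanExtensionIsPointwiseLeftKanExtension (fpι A) F).isIso_hom
  ⟨(fpι A).pointwiseLeftKanExtension F, preservesFilteredColimits F,
    ⟨(asIso ((fpι A).pointwiseLeftKanExtensionUnit F)).symm⟩⟩

end Groth.Agent.FPExtend2
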