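import Groth.Agent.Lib.FPExtend2.Basic
import Groth.Agent.Lib.CAlgLow.Coherent

/-!
# Left exactness of extensions along filtered colimits over coherent rings
-/

set_option autoImplicit false
set_option linter.style.haveILetI false
set_option linter.unusedSectionVars false
set_option backward.isDefEq.respectTransparency false

universe u v' u'

open CategoryTheory CategoryTheory.Limits

noncomputable section

namespace Groth.Agent.FPExtend2

open Groth.Agent.CAlgLow
open Groth.Agent.FPAdd28 (presCocone presIsColimit)

variable {A : Type u} [CommRing A] {B : Type u'} [Category.{v'} B]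

theorem finitePresentation_ker (hcoh : ∀ I : Ideal A, I.FG → Module.FinitePresentation A I)
    {P Q : Type u} [AddCommGroup P] [Module A P] [AddCommGroup Q] [Module A Q]
    [Module.FinitePresentation A P] [Module.FinitePresentation A Q] (g : P →ₗ[A] Q) :
    Module.FinitePresentation A (LinearMap.ker g) := by
  refine coherent_of_finitePresentation hcoh _ ?_
  haveI := coherent_of_finitePresentation hcoh (LinearMap.range g) (Submodule.fg_range g)
  have h := Module.FinitePresentation.fg_ker g.rangeRestrict g.surjective_rangeRestrict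
  rwa [LinearMap.ker_rangeRestrict] at h

/-- Kernels pass to filtered colimits. -/
theorem preservesKernel_of_colimit [HasZeroMorphisms B] {J : Type u} [SmallCategory J] [IsFiltered J]
    [HasColimitsOfShape J B] [PreservesLimitsOfShape WalkingParallelPair (colim : (J ⥤ B) ⥤ B)]
    (G : ModuleCat.{u} A ⥤ B) [PreservesColimitsOfShape J G]
    {P Q : J ⥤ ModuleCat.{u} A} (α : P ⟶ Q)
    (hG : ∀ j, PreservesLimit (parallelPair (α.app j) 0) G)
    {cP : Cocone P} (hP : IsColimit cP) {cQ : Cocone Q} (hQ : IsColimit cQ) (f : cP.pt ⟶ cQ.pt)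
    (hf : ∀ j, α.app j ≫ cQ.ι.app j = cP.ι.app j ≫ f) :
    PreservesLimit (parallelPair f 0) G := by
  haveI hW : PreservesLimit (parallelPair α 0) ((Functor.whiskeringRight J (ModuleCat.{u} A) B).obj G) := by
    refine preservesLimit_of_evaluation _ _ fun j => ?_
    haveI := hG j
    haveI : PreservesLimit (parallelPair α 0 ⋙ (evaluation J (ModuleCat.{u} A)).obj j) G :=
      preservesLimit_of_iso_diagram G (K₁ := parallelPair (α.app j) 0)
        ((diagramIsoParallelPair (parallelPair α 0 ⋙ (evaluation J (ModuleCat.{u} A)).obj j)) ≪≫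
          parallelPair.ext (Iso.refl _) (Iso.refl _) (by simp) (by simp)).symm
    exact inferInstanceAs (PreservesLimit (parallelPair α 0) ((evaluation J (ModuleCat.{u} A)).obj j ⋙ G))
  haveI hC : PreservesLimit (parallelPair α 0) (colim ⋙ G) :=
    preservesLimit_of_natIso _ (preservesColimitNatIso G).symm
  haveI : PreservesLimit (parallelPair α 0 ⋙ colim) G :=
    preservesLimit_of_preserves_limit_cone (isLimitOfPreserves colim (limit.isLimit (parallelPair α 0)))
      (isLimitOfPreserves (colim ⋙ G) (limit.isLimit (parallelPair α 0)))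
  refine preservesLimit_of_iso_diagram G (diagramIsoParallelPair (parallelPair α 0 ⋙ colim) ≪≫
    parallelPair.ext (colimit.isoColimitCocone ⟨cP, hP⟩) (colimit.isoColimitCocone ⟨cQ, hQ⟩) ?_ ?_)
  · refine colimit.hom_ext fun j => ?_
    simp [hf]
  · refine colimit.hom_ext fun j => ?_
    simp

variable [Preadditive B] [HasFiniteBiproducts B] (F' : ModuleCat.{u} A ⥤ B)
  [PreservesFiniteLimits (fpι A ⋙ F')]

theorem additive_restriction' : (fpι A ⋙ F').Additive := by
  let R := ObjectProperty.ι (FPExt8.fp A) ⋙ F'
  haveI : PreservesFiniteLimits R := ‹_›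
  haveI : HasFiniteBiproducts (FPExt8.fp A).FullSubcategory := HasFiniteBiproducts.of_hasFiniteProducts
  haveI : HasBinaryBiproducts (FPExt8.fp A).FullSubcategory := hasBinaryBiproducts_of_finite_biproducts _
  haveI : HasZeroObject B := hasZeroObject_of_hasFiniteBiproducts B
  haveI : HasZeroObject (FPExt8.fp A).FullSubcategory := hasZeroObject_of_hasFiniteBiproducts _
  haveI : R.PreservesZeroMorphisms := Functor.preservesZeroMorphisms_of_map_zero_object
    (((isZero_zero _).isTerminal.isTerminalObj R _).uniqueUpToIso (isZero_zero B).isTerminal)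
  haveI : PreservesBinaryBiproducts R := preservesBinaryBiproducts_of_preservesBinaryProducts R
  exact Functor.additive_of_preservesBinaryBiproducts R

variable [F'.Additive] (hcoh : ∀ I : Ideal A, I.FG → Module.FinitePresentation A I)

include hcoh in
theorem preservesKernel_fp {P Q : ModuleCat.{u} A} [Module.FinitePresentation A P]
    [Module.FinitePresentation A Q] (g : P ⟶ Q) : PreservesLimit (parallelPair g 0) F' := by
  haveI := finitePresentation_ker hcoh g.hom
  let P' : ObjectProperty.FullSubcategory (fun M : ModuleCat.{u} A => Module.FinitePresentation A M) :=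
    ⟨P, ‹_›⟩
  let Q' : ObjectProperty.FullSubcategory (fun M : ModuleCat.{u} A => Module.FinitePresentation A M) :=
    ⟨Q, ‹_›⟩
  let g' : P' ⟶ Q' := ObjectProperty.homMk g
  let K' : ObjectProperty.FullSubcategory (fun M : ModuleCat.{u} A => Module.FinitePresentation A M) :=
    ⟨ModuleCat.of A (LinearMap.ker g.hom), ‹_›⟩
  let i' : K' ⟶ P' := ObjectProperty.homMk (ModuleCat.ofHom (LinearMap.ker g.hom).subtype)
  have hw : i' ≫ g' = 0 := ObjectProperty.hom_ext _ (ModuleCat.hom_ext (LinearMap.ext fun x => x.2))
  have hsub : IsLimit ((KernelFork.ofι i' hw).map (fpι A)) :=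
    IsLimit.ofIsoLimit (ModuleCat.kernelIsLimit g) (Fork.ext (Iso.refl _) (by simp; rfl))
  have hlim : IsLimit (KernelFork.ofι i' hw) :=
    isLimitOfReflects (fpι A) ((KernelFork.isLimitMapConeEquiv _ (fpι A)).symm hsub)
  have h1 := KernelFork.mapIsLimit _ hlim (fpι A ⋙ F')
  refine preservesLimit_of_preserves_limit_cone (ModuleCat.kernelIsLimit g) ?_
  refine (KernelFork.isLimitMapConeEquiv _ F').symm ?_
  exact IsLimit.ofIsoLimit h1 (Fork.ext (Iso.refl _) (by simp; rfl))

variable [PreservesFilteredColimitsOfSize.{u, u} F'] [HasFilteredColimitsOfSize.{u, u} B]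
  (hcomm : ∀ (J : Type u) [SmallCategory J] [IsFiltered J],
    PreservesLimitsOfShape WalkingParallelPair (colim : (J ⥤ B) ⥤ B))

include hcoh hcomm in
theorem preservesKernel {M N : ModuleCat.{u} A} (f : M ⟶ N) : PreservesLimit (parallelPair f 0) F' := by
  let L : Pres A M ⥤ CostructuredArrow (fpι A) N := toCostr M ⋙ CostructuredArrow.map f
  let J := Comma L (toCostr N)
  haveI : IsFiltered J := inferInstanceAs (IsFiltered (Comma L (toCostr N)))
  haveI := hcomm J
  haveI : HasColimitsOfShape J B := HasFilteredColimitsOfSize.HasColimitsOfShape _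
  haveI : PreservesColimitsOfShape J F' := PreservesFilteredColimitsOfSize.preserves_filtered_colimits _
  let P : J ⥤ ModuleCat.{u} A := Comma.fst L (toCostr N) ⋙ FPAdd28.diag M
  let Q : J ⥤ ModuleCat.{u} A := Comma.snd L (toCostr N) ⋙ FPAdd28.diag N
  let α : P ⟶ Q :=
    { app := fun j => j.hom.left.hom
      naturality := fun i j g => congrArg (fun t => t.left.hom) g.w }
  refine preservesKernel_of_colimit F' α (fun j => ?_)
    ((Functor.Final.isColimitWhiskerEquiv (Comma.fst L (toCostr N)) _).symm (presIsColimit M))
    ((Functor.Final.isColimitWhiskerEquiv (Comma.snd L (toCostr N)) _).symm (presIsColimit N)) f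
    (fun j => CostructuredArrow.w j.hom)
  haveI : Module.FinitePresentation A (P.obj j) := (Comma.fst L (toCostr N)).obj j |>.finitePresentation
  haveI : Module.FinitePresentation A (Q.obj j) := (Comma.snd L (toCostr N)).obj j |>.finitePresentation
  exact preservesKernel_fp F' hcoh (α.app j)

include hcoh hcomm in
theorem preservesFiniteLimits : PreservesFiniteLimits F' := by
  haveI : HasZeroObject B := hasZeroObject_of_hasFiniteBiproducts B
  haveI : ∀ {X Y : ModuleCat.{u} A} (f : X ⟶ Y), PreservesLimit (parallelPair f 0) F' :=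
    fun f => preservesKernel F' hcoh hcomm f
  exact Functor.preservesFiniteLimits_of_preservesKernels F'

end Groth.Agent.FPExtend2
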